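import Cfsg.Agent.Base
import Cfsg.Agent.BG.Rank
import Cfsg.Agent.BG.Nil
import Cfsg.Agent.BG.Prod
import Cfsg.Agent.BG.QuotPi
import Cfsg.Agent.Solv.CoprimeGen
import Cfsg.Agent.Solv.Fitting
import Cfsg.Agent.PLocal.CharPLocal

/-!
# Action of a `p`-group on a `p'`-group (ambient form), used for signalizer functors
-/

namespace CL.SF

open Cfsg Subgroup CL.BG

variable {G : Type*} [Group G] [Finite G] {p q : ℕ} {π : Set ℕ} {A B K H P Q U V X Y : Subgroup G}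
  {a : G}

theorem cop [hp : Fact p.Prime] (hA : IsPGroup p A) (hK : PiGrp {p}ᶜ K) :
    (Nat.card A).Coprime (Nat.card K) :=
  BG.coprime_card_of_isPGroup hp.out hA hK

theorem solv [Fact p.Prime] (hA : IsPGroup p A) (K : Subgroup G) :
    Group.IsSolvable A ∨ Group.IsSolvable K :=
  Or.inl (solvable_of_isPGroup hA)

theorem sylowOf_of_card [hq : Fact q.Prime] (hle : P ≤ K)
    (h : Nat.card P = q ^ (Nat.card K).factorization q) : SylowOf q P K := by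
  obtain ⟨S, hS⟩ := exists_sylow_map_subtype_eq hle h
  exact sylowOf_iff_exists.2 ⟨S, hS⟩

section pgroup
variable [hp : Fact p.Prime] (hA : IsPGroup p A) (hK : PiGrp {p}ᶜ K) (hAK : A ≤ 𝐍(K))
include hA hK hAK

theorem inv_sylow_ge [Fact q.Prime] (hUK : U ≤ K) (hU : IsPGroup q U) (hAU : A ≤ 𝐍(U)) :
    ∃ P, SylowOf q P K ∧ A ≤ 𝐍(P) ∧ U ≤ P := by
  obtain ⟨P, h1, h2, h3, h4⟩ :=
    coprime_exists_invariant_sylow_ge hAK (cop hA hK) (solv hA K) U hUK hU hAU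
  exact ⟨P, sylowOf_of_card h2 h3, h4, h1⟩

theorem inv_sylow (q : ℕ) [Fact q.Prime] : ∃ P, SylowOf q P K ∧ A ≤ 𝐍(P) := by
  obtain ⟨P, h1, h2, -⟩ := inv_sylow_ge (q := q) hA hK hAK bot_le IsPGroup.of_bot
    (by rw [norm_bot]; exact le_top)
  exact ⟨P, h1, h2⟩

theorem inv_sylow_conj [Fact q.Prime] (hP : SylowOf q P K) (hAP : A ≤ 𝐍(P))
    (hQ : SylowOf q Q K) (hAQ : A ≤ 𝐍(Q)) : ∃ c ∈ K ⊓ 𝐂(A), cj c P = Q := by
  obtain ⟨c, hc, h⟩ := coprime_invariant_sylow_conj hAK (cop hA hK) (solv hA K) hP.le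
    hP.card_eq_pow hQ.le hQ.card_eq_pow hAP hAQ
  exact ⟨c, hc, by rw [cj_eq_smul]; exact h⟩

theorem inv_conj_of_conj (hAP : A ≤ 𝐍(P)) (hAQ : A ≤ 𝐍(Q)) {k : G} (hk : k ∈ K)
    (h : cj k P = Q) : ∃ c ∈ K ⊓ 𝐂(A), cj c P = Q := by
  obtain ⟨c, hc, h⟩ := coprime_conj_of_conj hAK (cop hA hK) (solv hA K) hAP hAQ hk
    (by rw [← cj_eq_smul]; exact h)
  exact ⟨c, hc, by rw [cj_eq_smul]; exact h⟩

/-- An invariant `q`-subgroup is conjugate into a given invariant Sylow `q`-subgroup by an element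
centralising `A`. -/
theorem inv_sylow_conj_le [Fact q.Prime] (hP : SylowOf q P K) (hAP : A ≤ 𝐍(P))
    (hUK : U ≤ K) (hU : IsPGroup q U) (hAU : A ≤ 𝐍(U)) : ∃ c ∈ K ⊓ 𝐂(A), cj c U ≤ P := by
  obtain ⟨Q, hQ, hAQ, hUQ⟩ := inv_sylow_ge hA hK hAK hUK hU hAU
  obtain ⟨c, hc, h⟩ := inv_sylow_conj hA hK hAK hQ hAQ hP hAP
  exact ⟨c, hc, h ▸ cj_mono c hUQ⟩

/-- If `X ≤ K` is invariant under `A` and `C_K(A)` then invariant Sylow subgroups of `K` meet `X`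
in a Sylow subgroup. -/
theorem inv_sylow_inf [Fact q.Prime] (hP : SylowOf q P K) (hAP : A ≤ 𝐍(P)) (hX : X ≤ K)
    (hAX : A ≤ 𝐍(X)) (hCX : K ⊓ 𝐂(A) ≤ 𝐍(X)) : SylowOf q (P ⊓ X) X := by
  obtain ⟨R, hR, hAR⟩ := inv_sylow hA (hK.of_le hX) hAX q
  obtain ⟨c, hc, h⟩ := inv_sylow_conj_le hA hK hAK hP hAP (hR.le.trans hX) hR.isPGroup hAR
  have h1 : SylowOf q (cj c R) X := hR.cj_of_mem_norm (hCX hc)
  exact h1.of_ge' (hP.isPGroup.to_inf_left) (le_inf h h1.le) inf_le_right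

theorem inv_sylow_inf_cent [Fact q.Prime] (hP : SylowOf q P K) (hAP : A ≤ 𝐍(P)) :
    SylowOf q (P ⊓ 𝐂(A)) (K ⊓ 𝐂(A)) := by
  have := inv_sylow_inf hA hK hAK hP hAP (X := K ⊓ 𝐂(A)) inf_le_left
    (norms_inf_cent hAK (le_norm_self A)) (le_norm_self _)
  rwa [← inf_assoc, inf_eq_left.2 hP.le] at this

theorem comm_sup_cent : ⁅K, A⁆ ⊔ (K ⊓ 𝐂(A)) = K :=
  coprime_commutator_sup_centralizer hAK (cop hA hK) (solv hA K)

theorem exists_comm_mul_cent {k : G} (hk : k ∈ K) :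
    ∃ n ∈ ⁅K, A⁆, ∃ c ∈ K ⊓ 𝐂(A), k = n * c :=
  coprime_exists_commutator_mul_centralizer hAK (cop hA hK) (solv hA K) hk

theorem comm_comm : ⁅⁅K, A⁆, A⁆ = ⁅K, A⁆ :=
  coprime_commutator_commutator hAK (cop hA hK) (solv hA K)

theorem le_cent_of_comm_le (h : ⁅K, A⁆ ≤ 𝐂(A)) : K ≤ 𝐂(A) :=
  coprime_le_centralizer_of_commutator_le hAK (cop hA hK) (solv hA K) h

omit hAK in
theorem cent_mul (hX : X ≤ K) (hAX : A ≤ 𝐍(X)) (hAY : A ≤ 𝐍(Y)) {x y : G} (hx : x ∈ X)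
    (hy : y ∈ Y) (h : x * y ∈ 𝐂(A)) :
    ∃ x' ∈ X ⊓ 𝐂(A), ∃ y' ∈ Y ⊓ 𝐂(A), x * y = x' * y' :=
  coprime_centralizer_mul (cop hA hK) (solv hA K) hX hAX hAY hx hy h

/-- fixed points on `K H` when `H` normalises `K` -/
theorem sup_inf_cent (hAH : A ≤ 𝐍(H)) (hHK : H ≤ 𝐍(K)) :
    (K ⊔ H) ⊓ 𝐂(A) = (K ⊓ 𝐂(A)) ⊔ (H ⊓ 𝐂(A)) := by
  refine le_antisymm ?_ (sup_le (inf_le_inf_right _ le_sup_left) (inf_le_inf_right _ le_sup_right))
  rintro z ⟨hz, hc⟩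
  obtain ⟨x, hx, y, hy, rfl⟩ := (mem_sup_iff_of_norm hHK).1 hz
  obtain ⟨x', hx', y', hy', h⟩ := cent_mul hA hK le_rfl hAK hAH hx hy hc
  rw [h]
  exact mul_mem_sup hx' hy'

end pgroup

/-! ### invariant Hall subgroups -/

section hall
variable [hp : Fact p.Prime] (hA : IsPGroup p A) (hK : PiGrp {p}ᶜ K) (hAK : A ≤ 𝐍(K))
  (hs : Group.IsSolvable K)
include hA hK hAK hs

theorem inv_hall_conj (hP : Hall π P K) (hAP : A ≤ 𝐍(P)) (hQ : Hall π Q K) (hAQ : A ≤ 𝐍(Q)) :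
    ∃ c ∈ K ⊓ 𝐂(A), cj c P = Q := by
  obtain ⟨k, hk, h⟩ := hall_conj hs hP hQ
  exact inv_conj_of_conj hA hK hAK hAP hAQ hk h

/-- An invariant `π`-subgroup lies in an invariant Hall `π`-subgroup. -/
theorem inv_hall_ge (hUK : U ≤ K) (hU : PiGrp π U) (hAU : A ≤ 𝐍(U)) :
    ∃ P, Hall π P K ∧ A ≤ 𝐍(P) ∧ U ≤ P := by
  have hsol : Group.IsSolvable ↥(K ⊔ A) := solvable_sup hAK hs (solvable_of_isPGroup hA)
  have hUA : PiGrp (π ∪ {p}) (U ⊔ A) :=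
    (hU.mono Set.subset_union_left).sup (piGrp_of_isPGroup hp.out hA (by simp)) (Or.inl hAU)
  obtain ⟨W, hW, hle⟩ := hall_superset hsol (sup_le_sup_right hUK A) hUA
  have hn : K ⊴ K ⊔ A := NormalIn.sup_left hAK
  have h1 : Hall (π ∪ {p}) (W ⊓ K) K := hW.inf_normal hn
  refine ⟨W ⊓ K, h1.congr ?_, norms_inf (le_norm_of_le (le_sup_right.trans hle)) hAK,
    le_inf (le_sup_left.trans hle) hUK⟩
  intro r hr hd
  have : r ≠ p := fun h => hK.not_dvd hr (by simp [h]) hd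
  simp [this]

theorem inv_hall : ∃ P, Hall π P K ∧ A ≤ 𝐍(P) := by
  obtain ⟨P, h1, h2, -⟩ := inv_hall_ge hA hK hAK hs bot_le (piGrp_bot π)
    (by rw [norm_bot]; exact le_top)
  exact ⟨P, h1, h2⟩

theorem inv_hall_conj_le (hP : Hall π P K) (hAP : A ≤ 𝐍(P))
    (hUK : U ≤ K) (hU : PiGrp π U) (hAU : A ≤ 𝐍(U)) : ∃ c ∈ K ⊓ 𝐂(A), cj c U ≤ P := by
  obtain ⟨Q, hQ, hAQ, hUQ⟩ := inv_hall_ge hA hK hAK hs hUK hU hAU
  obtain ⟨c, hc, h⟩ := inv_hall_conj hA hK hAK hs hQ hAQ hP hAP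
  exact ⟨c, hc, h ▸ cj_mono c hUQ⟩

/-- A `π`-subgroup invariant under `A` and `C_K(A)` lies in every invariant Hall subgroup. -/
theorem le_inv_hall (hP : Hall π P K) (hAP : A ≤ 𝐍(P))
    (hUK : U ≤ K) (hU : PiGrp π U) (hAU : A ≤ 𝐍(U)) (hC : K ⊓ 𝐂(A) ≤ 𝐍(U)) : U ≤ P := by
  obtain ⟨c, hc, h⟩ := inv_hall_conj_le hA hK hAK hs hP hAP hUK hU hAU
  rwa [cj_eq_of_mem_norm (hC hc)] at h

end hall

/-! ### generation by centralisers -/

section elem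
variable [hp : Fact p.Prime]

omit [Finite G] in
theorem not_isCyclic_of_sq_le (hA : IsElementaryAbelian p A) (h : p ^ 2 ≤ Nat.card A) :
    ¬ IsCyclic A := fun hc => by
  have h1 := Nat.le_of_dvd hp.out.pos (card_dvd_of_elemAb_of_isCyclic hA hc)
  have h2 := hp.out.two_le
  nlinarith

theorem exists_elemN_of_pow_le (hA : IsElementaryAbelian p A) {k : ℕ} (h : p ^ k ≤ Nat.card A) :
    ∃ n, k ≤ n ∧ ElemN p n A A := by
  obtain ⟨n, hn⟩ := exists_elemN_of_elemAb hp.out hA le_rfl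
  refine ⟨n, ?_, hn⟩
  rw [hn.card] at h
  exact (Nat.pow_le_pow_iff_right hp.out.one_lt).1 h

theorem le_of_cent1_le (hA : IsElementaryAbelian p A) (hA2 : p ^ 2 ≤ Nat.card A)
    (hK : PiGrp {p}ᶜ K) (hAK : A ≤ 𝐍(K)) (h : ∀ a ∈ A, a ≠ 1 → K ⊓ 𝐂₁(a) ≤ H) : K ≤ H :=
  haveI := hA.1
  coprime_le_of_not_isCyclic (not_isCyclic_of_sq_le hA hA2) hAK (cop (EA.isPGroup hA) hK) H h

/-- `K` is generated by the centralisers of the hyperplanes of `A` (for `A ≠ 1`). -/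
theorem le_of_hyp_le (hA : IsElementaryAbelian p A) (hA1 : A ≠ ⊥)
    (hK : PiGrp {p}ᶜ K) (hAK : A ≤ 𝐍(K))
    (h : ∀ B : Subgroup G, B ≤ A → B.relIndex A = p → K ⊓ 𝐂(B) ≤ H) : K ≤ H := by
  have := hA.1
  refine coprime_le_of_hyperplanes hA.2 hAK (cop (EA.isPGroup hA) hK) H fun B hB hd => ?_
  rcases (Nat.dvd_prime hp.out).1 hd with h1 | h1
  · obtain ⟨n, hn⟩ := exists_elemN_of_elemAb hp.out hA le_rfl
    have hn0 : n ≠ 0 := fun h0 => hA1 (elemN_zero_iff.1 (h0 ▸ hn))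
    obtain ⟨m, rfl⟩ := Nat.exists_eq_succ_of_ne_zero hn0
    obtain ⟨C, hC⟩ := hn.exists_sub hp.out (Nat.le_succ m)
    have hCA : C.relIndex A = p := by
      have := CL.BG.card_mul_relIndex hC.le
      rw [hC.card, hn.card, pow_succ] at this
      exact Nat.eq_of_mul_eq_mul_left (pow_pos hp.out.pos m) this
    exact (inf_le_inf_left _ (cent_anti (hC.le.trans (relIndex_eq_one.1 h1)))).trans
      (h C hC.le hCA)
  · exact h B hB h1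

omit [Finite G] in
theorem elemN_of_hyp {n : ℕ} (hA : ElemN p (n + 1) H A) (hB : B ≤ A) (h : B.relIndex A = p) :
    ElemN p n A B := by
  refine ⟨hB, EA.mono hA.elem hB, ?_⟩
  have := CL.BG.card_mul_relIndex hB
  rw [h, hA.card, pow_succ] at this
  exact Nat.eq_of_mul_eq_mul_right hp.out.pos this

omit [Finite G] in
theorem relIndex_of_elemN {n : ℕ} (hA : ElemN p (n + 1) H A) (hB : ElemN p n A B) :
    B.relIndex A = p := by
  have := CL.BG.card_mul_relIndex hB.le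
  rw [hB.card, hA.card, pow_succ] at this
  exact Nat.eq_of_mul_eq_mul_left (pow_pos hp.out.pos n) this

/-- the hyperplane form with `ElemN` -/
theorem le_of_elemN_le {n : ℕ} (hA : ElemN p (n + 1) H A) (hK : PiGrp {p}ᶜ K) (hAK : A ≤ 𝐍(K))
    (h : ∀ B : Subgroup G, ElemN p n A B → K ⊓ 𝐂(B) ≤ X) : K ≤ X :=
  le_of_hyp_le hA.elem (hA.ne_bot hp.out (Nat.succ_pos n)) hK hAK
    fun B hB hi => h B (elemN_of_hyp hA hB hi)

theorem exists_hyp_not_le {n : ℕ} (hA : ElemN p (n + 1) H A) (hK : PiGrp {p}ᶜ K)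
    (hAK : A ≤ 𝐍(K)) (h : ¬ K ≤ X) : ∃ B, ElemN p n A B ∧ ¬ K ⊓ 𝐂(B) ≤ X := by
  by_contra hcon
  push Not at hcon
  exact h (le_of_elemN_le hA hK hAK hcon)

theorem exists_hyp_ne_bot {n : ℕ} (hA : ElemN p (n + 1) H A) (hK : PiGrp {p}ᶜ K)
    (hAK : A ≤ 𝐍(K)) (h : K ≠ ⊥) : ∃ B, ElemN p n A B ∧ K ⊓ 𝐂(B) ≠ ⊥ := by
  obtain ⟨B, hB, h1⟩ := exists_hyp_not_le (X := ⊥) hA hK hAK (by simpa using h)
  exact ⟨B, hB, by simpa using h1⟩

/-- Two hyperplanes of an elementary abelian group of rank `n + 2` meet in rank at least `n`. -/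
theorem exists_elemN_le_inf {n : ℕ} {B₁ B₂ : Subgroup G} (hA : ElemN p (n + 2) H A)
    (h₁ : ElemN p (n + 1) A B₁) (h₂ : ElemN p (n + 1) A B₂) :
    ∃ C, ElemN p n A C ∧ C ≤ B₁ ⊓ B₂ := by
  obtain ⟨m, hm, hC⟩ := h₂.exists_inf_of_relIndex_le hp.out (k := 1) (K := B₁)
    (by rw [relIndex_of_elemN hA h₁, pow_one])
  obtain ⟨C, hC'⟩ := hC.exists_sub hp.out (m := n) (by omega)
  exact ⟨C, hC'.of_le (hC'.le.trans (inf_le_right.trans h₂.le)), hC'.le⟩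

theorem exists_mem_inf_hyp {n : ℕ} {B₁ B₂ : Subgroup G} (hA : ElemN p (n + 3) H A)
    (h₁ : ElemN p (n + 2) A B₁) (h₂ : ElemN p (n + 2) A B₂) :
    ∃ a ∈ A, a ≠ 1 ∧ a ∈ B₁ ∧ a ∈ B₂ := by
  obtain ⟨C, hC, hle⟩ := exists_elemN_le_inf (n := n + 1) hA h₁ h₂
  obtain ⟨a, ha, h1⟩ := exists_ne_one_of_ne_bot (hC.ne_bot hp.out (Nat.succ_pos n))
  exact ⟨a, hC.le ha, h1, (hle ha).1, (hle ha).2⟩

end elem

/-! ### `p'`-cores of local subgroups of solvable groups -/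

omit [Finite G] in
theorem subgroupOf_inf_cent (hPK : P ≤ K) :
    (K ⊓ 𝐂(P)).subgroupOf K = 𝐂(P.subgroupOf K) := by
  ext x
  simp only [mem_subgroupOf, mem_inf, x.2, true_and, mem_cent]
  constructor
  · intro h y hy
    exact Subtype.ext (h y hy)
  · intro h y hy
    exact congrArg Subtype.val (h ⟨y, hPK hy⟩ hy)

omit [Finite G] in
theorem subgroupOf_inf_norm (hPK : P ≤ K) :
    (K ⊓ 𝐍(P)).subgroupOf K = 𝐍(P.subgroupOf K) := by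
  apply map_injective K.subtype_injective
  have := map_inf_norm K.subtype_injective ⊤ (P.subgroupOf K)
  rw [top_inf_eq, ← MonoidHom.range_eq_map, range_subtype, subgroupOf_map_subtype,
    inf_eq_left.2 hPK] at this
  rw [this, subgroupOf_map_subtype, inf_eq_left.2 inf_le_left]

/-- `O_{q'}(N_K(P)) ≤ O_{q'}(K)` for `K` solvable and `P` a `q`-subgroup of `K`. -/
theorem core_norm_le [hq : Fact q.Prime] (hs : Group.IsSolvable K) (hPK : P ≤ K)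
    (hP : IsPGroup q P) : piCoreOf {q}ᶜ (K ⊓ 𝐍(P)) ≤ piCoreOf {q}ᶜ K := by
  have h1 := (PL.IsPConstrained.normalizer
    (PL.isPConstrained_of_isPSolvable (PL.isPSolvable_of_isSolvable (p := q) (G := K)))
    (IsPGroup_subgroupOf hP K)).2
  rw [← piCoreOf_compl_singleton hq.out, ← subgroupOf_inf_norm hPK,
    piCoreOf_subgroupOf_of_le inf_le_left] at h1
  rw [piCoreOf_compl_singleton hq.out K]
  intro x hx
  have hxK : x ∈ K := (piCoreOf_le _ _ hx).1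
  have : (⟨x, hxK⟩ : K) ∈ (piCoreOf {q}ᶜ (K ⊓ 𝐍(P))).subgroupOf K := hx
  rw [h1] at this
  exact ⟨_, this.1, rfl⟩

/-- `O_{q'}(C_K(P)) ≤ O_{q'}(K)` for `K` solvable and `P` a `q`-subgroup of `K`. -/
theorem core_cent_le [hq : Fact q.Prime] (hs : Group.IsSolvable K) (hPK : P ≤ K)
    (hP : IsPGroup q P) : piCoreOf {q}ᶜ (K ⊓ 𝐂(P)) ≤ piCoreOf {q}ᶜ K := by
  refine le_trans (NormalIn.piCoreOf_le ?_ _) (core_norm_le hs hPK hP)
  exact ⟨inf_le_inf_left _ (cent_le_norm P),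
    norms_inf (le_norm_of_le inf_le_left) (norms_cent inf_le_right)⟩

end CL.SF
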