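import Cfsg.Agent.Base
import Cfsg.Agent.SF.Cop
import Cfsg.Agent.Solv.Factor

/-!
# Solvable signalizer functors: the family of a functor, the Transitivity Theorem
-/

namespace CL.SF

open Cfsg Subgroup CL.BG

variable {G : Type*} [Group G] {p q : ℕ} {π : Set ℕ} {A B K H P Q R U V X Y : Subgroup G}
  {a b c : G} {θ : G → Subgroup G}

/-- `θ` is a solvable signalizer functor on the elementary abelian `p`-group `A`. -/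
structure IsSF (p : ℕ) (A : Subgroup G) (θ : G → Subgroup G) : Prop where
  elem : IsElementaryAbelian p A
  le_cent : ∀ a ∈ A, a ≠ 1 → θ a ≤ 𝐂₁(a)
  pi : ∀ a ∈ A, a ≠ 1 → PiGrp {p}ᶜ (θ a)
  norm : ∀ a ∈ A, a ≠ 1 → A ≤ 𝐍(θ a)
  bal : ∀ a ∈ A, a ≠ 1 → ∀ b ∈ A, b ≠ 1 → θ a ⊓ 𝐂₁(b) ≤ θ b
  solv : ∀ a ∈ A, a ≠ 1 → Group.IsSolvable (θ a)

/-- `U` is a `θ`-subgroup. -/
structure Fam (p : ℕ) (A : Subgroup G) (θ : G → Subgroup G) (U : Subgroup G) : Prop where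
  solv : Group.IsSolvable U
  pi : PiGrp {p}ᶜ U
  norm : A ≤ 𝐍(U)
  le : ∀ a ∈ A, a ≠ 1 → U ⊓ 𝐂₁(a) ≤ θ a

/-- `Q` is a maximal `q`-subgroup in the family of `θ`. -/
structure MaxQ (p : ℕ) (A : Subgroup G) (θ : G → Subgroup G) (q : ℕ) (Q : Subgroup G) : Prop where
  fam : Fam p A θ Q
  pgrp : IsPGroup q Q
  max : ∀ R, Fam p A θ R → IsPGroup q R → Q ≤ R → R = Q

theorem isSF_of (hp : p.Prime) (hA : IsElementaryAbelian p A)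
    (h : IsSolvableSignalizerFunctor p A θ) : IsSF p A θ :=
  ⟨hA, h.1.1, fun a ha h1 => (piGrp_compl_singleton_iff hp).2 (h.1.2.1 a ha h1),
    fun a ha h1 => le_normalizer_iff.2 (h.1.2.2.1 a ha h1), h.1.2.2.2, h.2⟩

theorem IsSF.isSig (hp : p.Prime) (h : IsSF p A θ) : IsSignalizerFunctor p A θ :=
  ⟨h.le_cent, fun a ha h1 => (piGrp_compl_singleton_iff hp).1 (h.pi a ha h1),
    fun a ha h1 => le_normalizer_iff.1 (h.norm a ha h1), h.bal⟩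

theorem IsSF.isSolvSig (hp : p.Prime) (h : IsSF p A θ) : IsSolvableSignalizerFunctor p A θ :=
  ⟨h.isSig hp, h.solv⟩

theorem fam_iff (hp : p.Prime) : Fam p A θ U ↔ U ∈ signalizerFamily p A θ :=
  ⟨fun h => ⟨h.solv, (piGrp_compl_singleton_iff hp).1 h.pi, le_normalizer_iff.1 h.norm, h.le⟩,
    fun h => ⟨h.1, (piGrp_compl_singleton_iff hp).2 h.2.1, le_normalizer_iff.2 h.2.2.1, h.2.2.2⟩⟩

theorem mem_sInf : c ∈ signalizerInf B θ ↔ ∀ b ∈ B, b ≠ 1 → c ∈ θ b := by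
  simp [signalizerInf, mem_iInf]

theorem sInf_le (hb : b ∈ B) (h1 : b ≠ 1) : signalizerInf B θ ≤ θ b :=
  fun _ hc => mem_sInf.1 hc b hb h1

theorem le_sInf (h : ∀ b ∈ B, b ≠ 1 → U ≤ θ b) : U ≤ signalizerInf B θ :=
  fun _ hc => mem_sInf.2 fun b hb h1 => h b hb h1 hc

theorem sInf_anti (h : B ≤ A) : signalizerInf A θ ≤ signalizerInf B θ :=
  le_sInf fun _ hb h1 => sInf_le (h hb) h1

namespace IsSF

theorem pgrp (h : IsSF p A θ) : IsPGroup p A := EA.isPGroup h.elem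

theorem le_cent1 (h : IsSF p A θ) (ha : a ∈ A) : A ≤ 𝐂₁(a) :=
  (EA.le_centralizer h.elem).trans (cent_le_cent1 ha)

theorem le_cent_of_le (h : IsSF p A θ) (hB : B ≤ A) : A ≤ 𝐂(B) :=
  (EA.le_centralizer h.elem).trans (cent_anti hB)

theorem le_norm_of_le (h : IsSF p A θ) (hB : B ≤ A) : A ≤ 𝐍(B) :=
  (h.le_cent_of_le hB).trans (cent_le_norm B)

theorem fam (h : IsSF p A θ) (ha : a ∈ A) (h1 : a ≠ 1) : Fam p A θ (θ a) :=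
  ⟨h.solv a ha h1, h.pi a ha h1, h.norm a ha h1, h.bal a ha h1⟩

theorem restrict (h : IsSF p A θ) (hB : B ≤ A) : IsSF p B θ :=
  ⟨EA.mono h.elem hB, fun a ha => h.le_cent a (hB ha), fun a ha => h.pi a (hB ha),
    fun a ha h1 => hB.trans (h.norm a (hB ha) h1),
    fun a ha h1 b hb => h.bal a (hB ha) h1 b (hB hb), fun a ha => h.solv a (hB ha)⟩

theorem sInf_le_cent (h : IsSF p A θ) (hB : B ≤ A) : signalizerInf B θ ≤ 𝐂(B) := by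
  intro x hx
  rw [mem_cent]
  intro b hb
  by_cases h1 : b = 1
  · simp [h1]
  · exact (mem_cent1.1 (h.le_cent b (hB hb) h1 (sInf_le hb h1 hx))).symm

theorem sInf_eq (h : IsSF p A θ) (hB : B ≤ A) (hb : b ∈ B) (h1 : b ≠ 1) :
    signalizerInf B θ = θ b ⊓ 𝐂(B) :=
  le_antisymm (le_inf (sInf_le hb h1) (h.sInf_le_cent hB))
    (le_sInf fun c hc h2 =>
      (inf_le_inf_left _ (cent_le_cent1 hc)).trans (h.bal b (hB hb) h1 c (hB hc) h2))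

theorem sInf_zpowers (h : IsSF p A θ) (ha : a ∈ A) (h1 : a ≠ 1) :
    signalizerInf (zpowers a) θ = θ a := by
  rw [h.sInf_eq (zpowers_le.2 ha) (mem_zpowers a) h1, cent_zpowers]
  exact inf_eq_left.2 (h.le_cent a ha h1)

end IsSF

namespace Fam

theorem of_le (h : Fam p A θ U) (hV : V ≤ U) (hn : A ≤ 𝐍(V)) : Fam p A θ V :=
  ⟨solvable_of_le h.solv hV, h.pi.of_le hV, hn,
    fun a ha h1 => (inf_le_inf_right _ hV).trans (h.le a ha h1)⟩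

theorem inf (h : Fam p A θ U) (hn : A ≤ 𝐍(V)) : Fam p A θ (U ⊓ V) :=
  h.of_le inf_le_left (norms_inf h.norm hn)

theorem inf' (h : Fam p A θ U) (hn : A ≤ 𝐍(V)) : Fam p A θ (V ⊓ U) :=
  h.of_le inf_le_right (norms_inf hn h.norm)

theorem inf_norm (h : Fam p A θ U) (hn : A ≤ 𝐍(V)) : Fam p A θ (U ⊓ 𝐍(V)) :=
  h.inf (norms_norm hn)

theorem inf_cent (h : Fam p A θ U) (hn : A ≤ 𝐍(V)) : Fam p A θ (U ⊓ 𝐂(V)) :=
  h.inf (norms_cent hn)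

theorem restrict (h : Fam p A θ U) (hB : B ≤ A) : Fam p B θ U :=
  ⟨h.solv, h.pi, hB.trans h.norm, fun a ha => h.le a (hB ha)⟩

theorem inf_cent_le (h : Fam p A θ U) (hB : B ≤ A) : U ⊓ 𝐂(B) ≤ signalizerInf B θ :=
  le_sInf fun b hb h1 => (inf_le_inf_left _ (cent_le_cent1 hb)).trans (h.le b (hB hb) h1)

theorem le_theta (h : Fam p A θ U) (ha : a ∈ A) (h1 : a ≠ 1) (hU : U ≤ 𝐂₁(a)) : U ≤ θ a :=
  (le_inf le_rfl hU).trans (h.le a ha h1)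

theorem le_sInf (h : Fam p A θ U) (hB : B ≤ A) (hU : U ≤ 𝐂(B)) : U ≤ signalizerInf B θ :=
  (le_inf le_rfl hU).trans (h.inf_cent_le hB)

theorem core [Finite G] (h : Fam p A θ U) (π : Set ℕ) : Fam p A θ (piCoreOf π U) :=
  h.of_le (piCoreOf_le _ _) (norms_piCoreOf _ h.norm)

theorem fitting (h : Fam p A θ U) : Fam p A θ (fittingOf U) :=
  h.of_le (fittingOf_le _) (h.norm.trans (normalizer_le_normalizer_fittingOf _))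

theorem center (h : Fam p A θ U) : Fam p A θ 𝐙(U) :=
  h.of_le inf_le_left (norms_center h.norm)

theorem ne_of_dvd (h : Fam p A θ U) (hq : q.Prime) (hd : q ∣ Nat.card U) : q ≠ p :=
  fun e => h.pi.not_dvd hq (by simp [e]) hd

end Fam

theorem fam_bot (p : ℕ) (A : Subgroup G) (θ : G → Subgroup G) : Fam p A θ ⊥ :=
  ⟨solvable_bot, piGrp_bot _, by rw [norm_bot]; exact le_top, fun _ _ _ => by simp⟩

theorem IsSF.fam_sInf (h : IsSF p A θ) (hB : B ≤ A) (hne : B ≠ ⊥) :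
    Fam p A θ (signalizerInf B θ) := by
  obtain ⟨b, hb, h1⟩ := exists_ne_one_of_ne_bot hne
  rw [h.sInf_eq hB hb h1]
  exact (h.fam (hB hb) h1).inf_cent (h.le_norm_of_le hB)

theorem IsSF.norm_sInf (h : IsSF p A θ) (hB : B ≤ A) : A ≤ 𝐍(signalizerInf B θ) :=
  norms_iInf fun b => h.norm b (hB b.2.1) b.2.2

theorem norms_cj (hn : A ≤ 𝐍(U)) (hc : c ∈ 𝐂(A)) : A ≤ 𝐍(cj c U) := by
  rw [← cj_norm]
  have : cj c A = A := cj_eq_of_mem_norm (cent_le_norm A hc)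
  rw [← this]
  exact cj_mono c hn

theorem Fam.cj (h : Fam p A θ U) (hθ : IsSF p A θ) (hc : c ∈ signalizerInf A θ) :
    Fam p A θ (cj c U) := by
  have hcA := hθ.sInf_le_cent le_rfl hc
  refine ⟨solvable_cj.2 h.solv, h.pi.cj c, norms_cj h.norm hcA, fun a ha h1 => ?_⟩
  have e1 : 𝐂₁(a) = BG.cj c 𝐂₁(a) := (cj_eq_of_mem (cent_le_cent1 ha hcA)).symm
  have e2 : θ a = BG.cj c (θ a) := (cj_eq_of_mem (sInf_le ha h1 hc)).symm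
  rw [e1, e2, ← cj_inf]
  exact cj_mono c (h.le a ha h1)

theorem MaxQ.cj (h : MaxQ p A θ q Q) (hθ : IsSF p A θ) (hc : c ∈ signalizerInf A θ) :
    MaxQ p A θ q (cj c Q) := by
  refine ⟨h.fam.cj hθ hc, isPGroup_cj.2 h.pgrp, fun R hR hq hle => ?_⟩
  have := h.max _ (hR.cj hθ (inv_mem hc)) (isPGroup_cj.2 hq) (cj_le_iff_le_cj_inv.1 hle)
  rw [← this, cj_cj_inv]

variable [Finite G]

theorem exists_maxQ_ge (h : Fam p A θ U) (hU : IsPGroup q U) : ∃ Q, MaxQ p A θ q Q ∧ U ≤ Q := by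
  obtain ⟨M, h1, h2, h3⟩ := exists_maximal_ge (P := fun X => Fam p A θ X ∧ IsPGroup q X) ⟨h, hU⟩
  exact ⟨M, ⟨h2.1, h2.2, fun R hR hq hle => h3 R ⟨hR, hq⟩ hle⟩, h1⟩

variable [hp : Fact p.Prime]

/-- A solvable product of two `θ`-subgroups is a `θ`-subgroup. -/
theorem Fam.of_prod (hθ : IsSF p A θ) (hX : Fam p A θ X) (hY : Fam p A θ Y) (h : IsProd K X Y)
    (hs : Group.IsSolvable K) : Fam p A θ K := by
  have hK : PiGrp {p}ᶜ K := IsPiNum.of_dvd (IsPiNum.mul hX.pi hY.pi) h.card_dvd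
  refine ⟨hs, hK, h.eq_sup ▸ norms_sup hX.norm hY.norm, fun a ha h1 z hz => ?_⟩
  obtain ⟨x, hx, y, hy, rfl⟩ := h.exists_mul hz.1
  have hza : zpowers a ≤ A := zpowers_le.2 ha
  obtain ⟨x', hx', y', hy', e⟩ := cent_mul (hθ.pgrp.to_le hza) hX.pi le_rfl (hza.trans hX.norm)
    (hza.trans hY.norm) hx hy (by rw [cent_zpowers]; exact hz.2)
  rw [cent_zpowers] at hx' hy'
  rw [e]
  exact mul_mem (hX.le a ha h1 hx') (hY.le a ha h1 hy')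

theorem Fam.sup (hθ : IsSF p A θ) (hX : Fam p A θ X) (hY : Fam p A θ Y) (hn : Y ≤ 𝐍(X)) :
    Fam p A θ (X ⊔ Y) :=
  Fam.of_prod hθ hX hY (IsProd.of_le_normalizer' hn) (solvable_sup hn hX.solv hY.solv)

theorem Fam.sup' (hθ : IsSF p A θ) (hX : Fam p A θ X) (hY : Fam p A θ Y) (hn : X ≤ 𝐍(Y)) :
    Fam p A θ (X ⊔ Y) :=
  sup_comm X Y ▸ Fam.sup hθ hY hX hn

theorem Fam.le_of_cent1 (hθ : IsSF p A θ) (hX : Fam p A θ X) (hB : B ≤ A)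
    (hB2 : p ^ 2 ≤ Nat.card B) (h : ∀ b ∈ B, b ≠ 1 → X ⊓ 𝐂₁(b) ≤ H) : X ≤ H :=
  le_of_cent1_le (EA.mono hθ.elem hB) hB2 hX.pi (hB.trans hX.norm) h

theorem Fam.le_of_theta (hθ : IsSF p A θ) (hX : Fam p A θ X) (hB : B ≤ A)
    (hB2 : p ^ 2 ≤ Nat.card B) (h : ∀ b ∈ B, b ≠ 1 → θ b ≤ H) : X ≤ H :=
  hX.le_of_cent1 hθ hB hB2 fun b hb h1 => (hX.le b (hB hb) h1).trans (h b hb h1)

/-- Two `A`-invariant `p'`-groups not contained in `D₁`, `D₂` respectively: for `A` of rank at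
least three some `a ∈ A#` has centralisers not contained in `D₁`, `D₂`. -/
theorem exists_cent1_not_le {N₁ N₂ D₁ D₂ : Subgroup G} (hA : IsElementaryAbelian p A)
    (hA3 : p ^ 3 ≤ Nat.card A) (hN₁ : PiGrp {p}ᶜ N₁) (hN₂ : PiGrp {p}ᶜ N₂) (hA₁ : A ≤ 𝐍(N₁))
    (hA₂ : A ≤ 𝐍(N₂)) (h₁ : ¬ N₁ ≤ D₁) (h₂ : ¬ N₂ ≤ D₂) :
    ∃ a ∈ A, a ≠ 1 ∧ ¬ N₁ ⊓ 𝐂₁(a) ≤ D₁ ∧ ¬ N₂ ⊓ 𝐂₁(a) ≤ D₂ := by
  obtain ⟨n, hn, hE⟩ := exists_elemN_of_pow_le hA hA3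
  obtain ⟨m, rfl⟩ : ∃ m, n = m + 3 := ⟨n - 3, by omega⟩
  obtain ⟨B₁, hB₁, k₁⟩ := exists_hyp_not_le (n := m + 2) hE hN₁ hA₁ h₁
  obtain ⟨B₂, hB₂, k₂⟩ := exists_hyp_not_le (n := m + 2) hE hN₂ hA₂ h₂
  obtain ⟨a, ha, h1, ha₁, ha₂⟩ := exists_mem_inf_hyp hE hB₁ hB₂
  exact ⟨a, ha, h1, fun h => k₁ ((inf_le_inf_left _ (cent_le_cent1 ha₁)).trans h),
    fun h => k₂ ((inf_le_inf_left _ (cent_le_cent1 ha₂)).trans h)⟩

/-- **Transitivity Theorem**. -/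
theorem transitivity [hq : Fact q.Prime] (hθ : IsSF p A θ) (hA3 : p ^ 3 ≤ Nat.card A)
    {Q₁ Q₂ : Subgroup G} (h₁ : MaxQ p A θ q Q₁) (h₂ : MaxQ p A θ q Q₂) :
    ∃ c ∈ signalizerInf A θ, cj c Q₁ = Q₂ := by
  suffices H : ∀ n : ℕ, ∀ Q₁ Q₂ : Subgroup G, MaxQ p A θ q Q₁ → MaxQ p A θ q Q₂ →
      Nat.card G - Nat.card ↥(Q₁ ⊓ Q₂) = n → ∃ c ∈ signalizerInf A θ, cj c Q₁ = Q₂ from
    H _ _ _ h₁ h₂ rfl
  intro n
  induction n using Nat.strong_induction_on with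
  | _ n ih =>
  intro Q₁ Q₂ h₁ h₂ hn
  by_cases e₁ : Q₁ ≤ Q₂
  · exact ⟨1, one_mem _, by rw [cj_one]; exact (h₁.max _ h₂.fam h₂.pgrp e₁).symm⟩
  by_cases e₂ : Q₂ ≤ Q₁
  · exact ⟨1, one_mem _, by rw [cj_one]; exact h₂.max _ h₁.fam h₁.pgrp e₂⟩
  set D := Q₁ ⊓ Q₂ with hD
  have hDf : Fam p A θ D := h₁.fam.inf h₂.fam.norm
  have hDq : IsPGroup q D := h₁.pgrp.to_inf_left
  have l₁ : D < Q₁ ⊓ 𝐍(D) :=
    lt_inf_norm_of_isPGroup h₁.pgrp (lt_of_le_of_ne inf_le_left fun e => e₁ (inf_eq_left.1 e))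
  have l₂ : D < Q₂ ⊓ 𝐍(D) :=
    lt_inf_norm_of_isPGroup h₂.pgrp (lt_of_le_of_ne inf_le_right fun e => e₂ (inf_eq_right.1 e))
  have f₁ := h₁.fam.inf_norm hDf.norm
  have f₂ := h₂.fam.inf_norm hDf.norm
  obtain ⟨a, ha, h1, k₁, k₂⟩ := exists_cent1_not_le hθ.elem hA3 f₁.pi f₂.pi f₁.norm f₂.norm
    l₁.not_ge l₂.not_ge
  have hH : Fam p A θ (D ⊔ θ a ⊓ 𝐍(D)) :=
    hDf.sup hθ ((hθ.fam ha h1).inf_norm hDf.norm) inf_le_right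
  have hca : A ≤ 𝐍(𝐂₁(a)) := norms_cent1 (hθ.le_cent1 ha)
  have key : ∀ Q : Subgroup G, MaxQ p A θ q Q → D ≤ Q → ¬ Q ⊓ 𝐍(D) ⊓ 𝐂₁(a) ≤ D →
      ∃ S, SylowOf q S (D ⊔ θ a ⊓ 𝐍(D)) ∧ A ≤ 𝐍(S) ∧ D < Q ⊓ S := by
    intro Q hQ hDQ hk
    have hle : D ⊔ Q ⊓ 𝐍(D) ⊓ 𝐂₁(a) ≤ Q := sup_le hDQ (inf_le_left.trans inf_le_left)
    obtain ⟨S, hS, hAS, hUS⟩ := inv_sylow_ge hθ.pgrp hH.pi hH.norm
      (U := D ⊔ Q ⊓ 𝐍(D) ⊓ 𝐂₁(a))
      (sup_le_sup_left (le_inf ((inf_le_inf_right _ inf_le_left).trans (hQ.fam.le a ha h1))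
        (inf_le_left.trans inf_le_right)) _) (hQ.pgrp.to_le hle)
      (norms_sup hDf.norm (norms_inf (hQ.fam.inf_norm hDf.norm).norm hca))
    exact ⟨S, hS, hAS, lt_of_lt_of_le (left_lt_sup.2 hk) (le_inf hle hUS)⟩
  obtain ⟨S₁, hS₁, hAS₁, m₁⟩ := key Q₁ h₁ inf_le_left k₁
  obtain ⟨S₂, hS₂, hAS₂, m₂⟩ := key Q₂ h₂ inf_le_right k₂
  obtain ⟨c, hc, hcS⟩ := inv_sylow_conj hθ.pgrp hH.pi hH.norm hS₁ hAS₁ hS₂ hAS₂
  have hcD : c ∈ signalizerInf A θ := hH.inf_cent_le le_rfl hc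
  obtain ⟨Q₃, h₃, hle₃⟩ := exists_maxQ_ge (hH.of_le hS₂.le hAS₂) hS₂.isPGroup
  have hcard : ∀ X : Subgroup G, Nat.card X ≤ Nat.card G := fun X => X.card_le_card_group
  have c₁ : Nat.card D < Nat.card ↥(cj c Q₁ ⊓ Q₃) := by
    refine lt_of_lt_of_le (BG.card_lt_of_lt m₁) ?_
    rw [← card_cj c, cj_inf, hcS]
    exact card_le_of_le (inf_le_inf_left _ hle₃)
  have c₂ : Nat.card D < Nat.card ↥(Q₃ ⊓ Q₂) :=
    lt_of_lt_of_le (BG.card_lt_of_lt m₂) (card_le_of_le (le_inf (inf_le_right.trans hle₃) inf_le_left))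
  obtain ⟨d, hd, e₃⟩ := ih _ (by have := hcard (cj c Q₁ ⊓ Q₃); omega) _ _ (h₁.cj hθ hcD) h₃ rfl
  obtain ⟨d', hd', e₄⟩ := ih _ (by have := hcard (Q₃ ⊓ Q₂); omega) _ _ h₃ h₂ rfl
  exact ⟨d' * d * c, mul_mem (mul_mem hd' hd) hcD, by rw [cj_mul, cj_mul, e₃, e₄]⟩

section
variable [hq : Fact q.Prime] (hθ : IsSF p A θ) (hA3 : p ^ 3 ≤ Nat.card A)
include hθ hA3

theorem MaxQ.exists_le_cj (hQ : MaxQ p A θ q Q) (hU : Fam p A θ U) (hUq : IsPGroup q U) :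
    ∃ c ∈ signalizerInf A θ, U ≤ BG.cj c Q := by
  obtain ⟨R, hR, hle⟩ := exists_maxQ_ge hU hUq
  obtain ⟨c, hc, e⟩ := transitivity hθ hA3 hQ hR
  exact ⟨c, hc, e ▸ hle⟩

theorem MaxQ.exists_cj_le (hQ : MaxQ p A θ q Q) (hU : Fam p A θ U) (hUq : IsPGroup q U) :
    ∃ c ∈ signalizerInf A θ, BG.cj c U ≤ Q := by
  obtain ⟨c, hc, e⟩ := hQ.exists_le_cj hθ hA3 hU hUq
  exact ⟨c⁻¹, inv_mem hc, le_cj_iff_cj_inv_le.1 e⟩

theorem MaxQ.card_le (hQ : MaxQ p A θ q Q) (hU : Fam p A θ U) (hUq : IsPGroup q U) :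
    Nat.card U ≤ Nat.card Q := by
  obtain ⟨c, -, e⟩ := hQ.exists_cj_le hθ hA3 hU hUq
  rw [← card_cj c]
  exact card_le_of_le e

theorem MaxQ.exists_sylow (hQ : MaxQ p A θ q Q) (hH : Fam p A θ H) :
    ∃ c ∈ signalizerInf A θ, SylowOf q (BG.cj c Q ⊓ H) H := by
  obtain ⟨S, hS, hAS⟩ := inv_sylow hθ.pgrp hH.pi hH.norm q
  obtain ⟨c, hc, e⟩ := hQ.exists_le_cj hθ hA3 (hH.of_le hS.le hAS) hS.isPGroup
  exact ⟨c, hc, hS.of_ge' (isPGroup_cj.2 hQ.pgrp).to_inf_left (le_inf e hS.le) inf_le_right⟩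

/-- A maximal `q`-subgroup of the family meets every `θ(C(A))`-invariant member in a Sylow
subgroup. -/
theorem MaxQ.sylow_inf (hQ : MaxQ p A θ q Q) (hH : Fam p A θ H)
    (hn : signalizerInf A θ ≤ 𝐍(H)) : SylowOf q (Q ⊓ H) H := by
  obtain ⟨c, hc, e⟩ := hQ.exists_sylow hθ hA3 hH
  have := e.cj_of_mem_norm (hn (inv_mem hc))
  rwa [cj_inf, cj_inv_cj, cj_eq_of_mem_norm (hn (inv_mem hc))] at this

theorem MaxQ.le_of_norm (hQ : MaxQ p A θ q Q) (hU : Fam p A θ U) (hUq : IsPGroup q U)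
    (hn : signalizerInf A θ ≤ 𝐍(U)) : U ≤ Q := by
  obtain ⟨c, hc, e⟩ := hQ.exists_cj_le hθ hA3 hU hUq
  rwa [cj_eq_of_mem_norm (hn hc)] at e

omit hA3 in
theorem MaxQ.sylow (hQ : MaxQ p A θ q Q) (hH : Fam p A θ H) (hle : Q ≤ H) : SylowOf q Q H := by
  obtain ⟨S, hS, hAS, h⟩ := inv_sylow_ge hθ.pgrp hH.pi hH.norm hle hQ.pgrp hQ.fam.norm
  rwa [hQ.max S (hH.of_le hS.le hAS) hS.isPGroup h] at hS

theorem MaxQ.sylow_sInf (hQ : MaxQ p A θ q Q) (hB : B ≤ A) (hne : B ≠ ⊥) :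
    SylowOf q (Q ⊓ 𝐂(B)) (signalizerInf B θ) := by
  have h := hQ.sylow_inf hθ hA3 (hθ.fam_sInf hB hne) (le_norm_of_le (sInf_anti hB))
  have e : Q ⊓ signalizerInf B θ = Q ⊓ 𝐂(B) :=
    le_antisymm (inf_le_inf_left _ (hθ.sInf_le_cent hB))
      (le_inf inf_le_left (hQ.fam.inf_cent_le hB))
  rwa [e] at h

theorem MaxQ.sylow_theta (hQ : MaxQ p A θ q Q) (ha : a ∈ A) (h1 : a ≠ 1) :
    SylowOf q (Q ⊓ 𝐂₁(a)) (θ a) := by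
  have := hQ.sylow_sInf hθ hA3 (zpowers_le.2 ha) (by simpa using h1)
  rwa [cent_zpowers, hθ.sInf_zpowers ha h1] at this

end

end CL.SF
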