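import Cfsg.Agent.Base
import Cfsg.Agent.SF.Basic

/-!
# Factorizations under coprime action of a noncyclic elementary abelian group
-/

namespace CL.SF

open Cfsg Subgroup CL.BG
open scoped commutatorElement

variable {G : Type*} [Group G] [Finite G] {p q : ℕ} {π : Set ℕ}
  {A B K H P Q R S U V X Y : Subgroup G}

theorem fitting_le_sup_core [Fact q.Prime] (K : Subgroup G) :
    fittingOf K ≤ piCoreOf {q} K ⊔ piCoreOf {q}ᶜ K := by
  have h := (nil_core_dp (fittingOf_isNilpotent K) {q}).sup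
  have hn : fittingOf K ⊴ K := ⟨fittingOf_le K, le_normalizer_fittingOf K⟩
  rw [← h]
  exact sup_le_sup (hn.piCoreOf_le _) (hn.piCoreOf_le _)

theorem core_le_fitting [hq : Fact q.Prime] (K : Subgroup G) : piCoreOf {q} K ≤ fittingOf K :=
  le_fittingOf (piCoreOf_le _ _) (le_norm_piCoreOf _ _)
    (nil_of_isPGroup (isPGroup_piCoreOf hq.out K))

theorem fitting_eq_core [Fact q.Prime] (h : piCoreOf {q}ᶜ K = ⊥) :
    fittingOf K = piCoreOf {q} K :=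
  le_antisymm (by simpa [h] using fitting_le_sup_core (q := q) K) (core_le_fitting K)

theorem cent_fitting_le (hs : Group.IsSolvable K) : K ⊓ 𝐂(fittingOf K) ≤ fittingOf K :=
  inf_centralizer_fittingOf_le K

theorem cent_core_le [Fact q.Prime] (hs : Group.IsSolvable K) (h : piCoreOf {q}ᶜ K = ⊥) :
    K ⊓ 𝐂(piCoreOf {q} K) ≤ piCoreOf {q} K := by
  rw [← fitting_eq_core h]
  exact cent_fitting_le hs

/-- A `q'`-subgroup of a solvable group acting trivially on `O_{q',q}/O_{q'}` lies in `O_{q'}`. -/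
theorem le_core_of_commutator_le [hq : Fact q.Prime] (hs : Group.IsSolvable K) (hU : U ≤ K)
    (hUq : PiGrp {q}ᶜ U) (h : ⁅pPrimePCoreOf q K, U⁆ ≤ piCoreOf {q}ᶜ K) :
    U ≤ piCoreOf {q}ᶜ K := by
  have hKV : K ≤ 𝐍(piCoreOf {q}ᶜ K) := le_norm_piCoreOf _ _
  have h1 := (quot_le_centralizer_iff ((pPrimePCoreOf_le q K).trans hKV) (hU.trans hKV)).2 h
  rw [quot_pPrimePCoreOf] at h1
  have h2 := (le_inf (quot_mono _ hU) (cent_symm h1)).trans
    (cent_core_le (quot_isSolvable _ hs) (piCoreOf_quot_piCoreOf {q}ᶜ K))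
  rw [← quot_eq_bot_iff (hU.trans hKV)]
  exact ((piGrp_piCoreOf _ _).of_le h2).eq_bot (hUq.quot _)

variable [hp : Fact p.Prime]

/-- Kurzweil-Stellmacher 11.2.6 -/
theorem le_core_of_hyp [hq : Fact q.Prime] (hA : IsElementaryAbelian p A) (hA1 : A ≠ ⊥)
    (hK : PiGrp {p}ᶜ K) (hs : Group.IsSolvable K) (hAK : A ≤ 𝐍(K)) (hU : U ≤ K)
    (hUq : PiGrp {q}ᶜ U)
    (h : ∀ B : Subgroup G, B ≤ A → B.relIndex A = p → PiGrp {q}ᶜ ⁅U, K ⊓ 𝐂(B)⁆) :
    U ≤ piCoreOf {q}ᶜ K := by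
  refine le_core_of_commutator_le hs hU hUq ?_
  have hKV : K ≤ 𝐍(piCoreOf {q}ᶜ K) := le_norm_piCoreOf _ _
  have hW := pPrimePCoreOf_le q K
  rw [← quot_le_centralizer_iff (hW.trans hKV) (hU.trans hKV), quot_le_iff (hW.trans hKV)]
  refine le_of_hyp_le hA hA1 (hK.of_le hW) (hAK.trans (norm_le_norm_pPrimePCoreOf K))
    fun B hB hi => ?_
  rw [← quot_le_iff ((inf_le_left.trans hW).trans hKV),
    quot_le_centralizer_iff ((inf_le_left.trans hW).trans hKV) (hU.trans hKV)]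
  refine (hall_piCoreOf_pPrimePCoreOf K).le_of_normal (hW.trans hKV) ?_ ?_
  · exact (commutator_mono inf_le_left hU).trans (pPrimePCoreOf_normalIn q K).commutator_le
  · rw [Subgroup.commutator_comm]
    exact (h B hB hi).of_le (commutator_mono le_rfl (inf_le_inf_right _ hW))

theorem isProd_of_cent1_pgroup [hq : Fact q.Prime] (hA : IsElementaryAbelian p A)
    (hA2 : p ^ 2 ≤ Nat.card A) (hS : PiGrp {p}ᶜ S) (hSq : IsPGroup q S) (hAS : A ≤ 𝐍(S))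
    (hX : X ≤ S) (hY : Y ≤ S)
    (h : ∀ a ∈ A, a ≠ 1 → IsProd (S ⊓ 𝐂₁(a)) (X ⊓ 𝐂₁(a)) (Y ⊓ 𝐂₁(a))) : IsProd S X Y := by
  obtain ⟨N, hNS, ⟨hN1, hN2, hN3⟩, hmin⟩ := exists_minimal_le
    (P := fun N : Subgroup G => A ≤ 𝐍(N) ∧ S ≤ 𝐍(N) ∧
      ∀ g ∈ S, ∃ x ∈ X, ∃ y ∈ Y, ∃ n ∈ N, g = x * y * n) (H := S)
    ⟨hAS, le_norm_self S, fun g hg => ⟨1, one_mem _, 1, one_mem _, g, hg, by simp⟩⟩
  by_cases hN : N = ⊥
  · refine ⟨hX, hY, fun g hg => ?_⟩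
    obtain ⟨x, hx, y, hy, n, hn, e⟩ := hN3 g hg
    rw [hN, mem_bot] at hn
    exact ⟨x, hx, y, hy, by rw [e, hn, mul_one]⟩
  exfalso
  have hlt : ⁅N, S⁆ < N := pgroup_commutator_lt (hSq.to_le hNS) hSq hN2 hN
  obtain ⟨M, hM1, ⟨hM2, hM3⟩, hmax⟩ := exists_maximal_ge
    (P := fun M : Subgroup G => M < N ∧ A ≤ 𝐍(M)) (H := ⁅N, S⁆) ⟨hlt, norms_commutator hN1 hAS⟩
  obtain ⟨a, ha, h1, hk⟩ : ∃ a ∈ A, a ≠ 1 ∧ ¬ N ⊓ 𝐂₁(a) ≤ M := by
    by_contra hcon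
    push Not at hcon
    exact hM2.not_ge (le_of_cent1_le hA hA2 (hS.of_le hNS) hN1 hcon)
  have hSM : S ≤ 𝐍(M) := le_norm_of_commutator_le hM2.le hM1
  have hc : A ≤ 𝐍(𝐂₁(a)) := norms_cent1 ((EA.le_centralizer hA).trans (cent_le_cent1 ha))
  have e : M ⊔ N ⊓ 𝐂₁(a) = N := by
    by_contra hne
    have := hmax (M ⊔ N ⊓ 𝐂₁(a)) ⟨lt_of_le_of_ne (sup_le hM2.le inf_le_left) hne,
      norms_sup hM3 (norms_inf hN1 hc)⟩ le_sup_left
    exact hk (le_sup_right.trans this.le)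
  refine hM2.ne (hmin M ⟨hM3, hSM, fun g hg => ?_⟩ hM2.le)
  obtain ⟨x, hx, y, hy, n, hn, rfl⟩ := hN3 g hg
  rw [← e, sup_comm, mem_sup_iff_of_norm' ((inf_le_left.trans hNS).trans hSM)] at hn
  obtain ⟨c, hc, m, hm, rfl⟩ := hn
  obtain ⟨x', hx', y', hy', e'⟩ := (h a ha h1).exists_mul (g := c) ⟨hNS hc.1, hc.2⟩
  have hm' : ⁅y⁻¹, c⁻¹⁆ ∈ M := by
    apply hM1
    rw [Subgroup.commutator_comm]
    exact commutator_mem_commutator (inv_mem (hY hy)) (inv_mem hc.1)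
  refine ⟨x * x', mul_mem hx hx'.1, y' * y, mul_mem hy'.1 hy, ⁅y⁻¹, c⁻¹⁆ * m, mul_mem hm' hm, ?_⟩
  rw [commutatorElement_def]
  calc x * y * (c * m) = x * c * y * (y⁻¹ * c⁻¹ * y⁻¹⁻¹ * c⁻¹⁻¹ * m) := by group
    _ = _ := by nth_rewrite 1 [e']; group

omit hp in
theorem sylow_card_mul [hq : Fact q.Prime] {K X Y D S SX SY SD : Subgroup G}
    (hS : SylowOf q S K) (hX : SylowOf q SX X) (hY : SylowOf q SY Y) (hD : SylowOf q SD D)
    (h : Nat.card K * Nat.card D = Nat.card X * Nat.card Y) :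
    Nat.card S * Nat.card SD = Nat.card SX * Nat.card SY := by
  rw [hS.card_eq_pow, hX.card_eq_pow, hY.card_eq_pow, hD.card_eq_pow, ← pow_add, ← pow_add,
    ← Finsupp.add_apply, ← Finsupp.add_apply,
    ← Nat.factorization_mul Nat.card_pos.ne' Nat.card_pos.ne',
    ← Nat.factorization_mul Nat.card_pos.ne' Nat.card_pos.ne', h]

/-- Kurzweil-Stellmacher 11.2.1 -/
theorem isProd_of_cent1 (hA : IsElementaryAbelian p A)
    (hA2 : p ^ 2 ≤ Nat.card A) (hK : PiGrp {p}ᶜ K) (hAK : A ≤ 𝐍(K))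
    (hX : X ≤ K) (hY : Y ≤ K) (hAX : A ≤ 𝐍(X)) (hAY : A ≤ 𝐍(Y)) (hCX : K ⊓ 𝐂(A) ≤ 𝐍(X))
    (h : ∀ a ∈ A, a ≠ 1 → IsProd (K ⊓ 𝐂₁(a)) (X ⊓ 𝐂₁(a)) (Y ⊓ 𝐂₁(a))) : IsProd K X Y := by
  have hAp := EA.isPGroup hA
  refine IsProd.of_card_le hX hY (le_of_eq ?_)
  refine Nat.eq_of_factorization_eq (mul_ne_zero Nat.card_pos.ne' Nat.card_pos.ne')
    (mul_ne_zero Nat.card_pos.ne' Nat.card_pos.ne') fun q => ?_
  by_cases hq : q.Prime
  swap
  · rw [Nat.factorization_eq_zero_of_not_prime _ hq, Nat.factorization_eq_zero_of_not_prime _ hq]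
  have : Fact q.Prime := ⟨hq⟩
  have hAD : A ≤ 𝐍(X ⊓ Y) := norms_inf hAX hAY
  obtain ⟨R, hR, hAR⟩ := inv_sylow hAp (hK.of_le (inf_le_left.trans hX)) hAD q
  obtain ⟨T, hT, hAT, hRT⟩ := inv_sylow_ge hAp (hK.of_le hY) hAY (hR.le.trans inf_le_right)
    hR.isPGroup hAR
  obtain ⟨S, hS, hAS, hTS⟩ := inv_sylow_ge hAp hK hAK (hT.le.trans hY) hT.isPGroup hAT
  have sX : SylowOf q (S ⊓ X) X := inv_sylow_inf hAp hK hAK hS hAS hX hAX hCX
  have sY : SylowOf q (S ⊓ Y) Y :=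
    hT.of_ge' hS.isPGroup.to_inf_left (le_inf hTS hT.le) inf_le_right
  have sD : SylowOf q (S ⊓ X ⊓ (S ⊓ Y)) (X ⊓ Y) :=
    hR.of_ge' hS.isPGroup.to_inf_left.to_inf_left
      (le_inf (le_inf (hRT.trans hTS) (hR.le.trans inf_le_left)) (le_inf (hRT.trans hTS)
        (hR.le.trans inf_le_right))) (inf_le_inf inf_le_right inf_le_right)
  have key : IsProd S (S ⊓ X) (S ⊓ Y) := by
    refine isProd_of_cent1_pgroup hA hA2 (hK.of_le hS.le) hS.isPGroup hAS inf_le_left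
      inf_le_left fun a ha h1 => ?_
    have hz : zpowers a ≤ A := zpowers_le.2 ha
    have hzp := hAp.to_le hz
    have t1 := inv_sylow_inf_cent hzp hK (hz.trans hAK) hS (hz.trans hAS)
    have t2 := inv_sylow_inf_cent hzp (hK.of_le hX) (hz.trans hAX) sX
      (hz.trans (norms_inf hAS hAX))
    have t3 := inv_sylow_inf_cent hzp (hK.of_le hY) (hz.trans hAY) sY
      (hz.trans (norms_inf hAS hAY))
    have t4 := inv_sylow_inf_cent hzp (hK.of_le (inf_le_left.trans hX)) (hz.trans hAD) sD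
      (hz.trans (norms_inf (norms_inf hAS hAX) (norms_inf hAS hAY)))
    rw [cent_zpowers] at t1 t2 t3 t4
    refine IsProd.of_card_le (inf_le_inf_right _ inf_le_left) (inf_le_inf_right _ inf_le_left)
      (le_of_eq ?_)
    have e := (h a ha h1).card_mul_card_inf
    rw [← inf_inf_distrib_right] at e ⊢
    exact sylow_card_mul t1 t2 t3 t4 e
  have e := key.card_mul_card_inf
  rw [hS.card_eq_pow, sX.card_eq_pow, sY.card_eq_pow, sD.card_eq_pow, ← pow_add, ← pow_add] at e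
  rw [Nat.factorization_mul Nat.card_pos.ne' Nat.card_pos.ne',
    Nat.factorization_mul Nat.card_pos.ne' Nat.card_pos.ne', Finsupp.add_apply, Finsupp.add_apply]
  exact Nat.pow_right_injective hq.two_le e

end CL.SF
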